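import Mathlib

/-!
# Irredundant bases
-/

set_option autoImplicit false
set_option linter.unusedSectionVars false

namespace Cfsg.Agent.PermBases

variable {G Ω : Type*} [Group G] [MulAction G Ω] [Fintype Ω]

/-- each term is moved by something fixing the earlier ones -/
def Irr (G : Type*) {Ω : Type*} [Group G] [MulAction G Ω] {m : ℕ} (f : Fin m → Ω) : Prop :=
  ∀ i : Fin m, ∃ g : G, (∀ j : Fin m, j < i → g • f j = f j) ∧ g • f i ≠ f i

/-- only the identity fixes all terms -/
def IsBase (G : Type*) {Ω : Type*} [Group G] [MulAction G Ω] {m : ℕ} (f : Fin m → Ω) : Prop :=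
  ∀ g : G, (∀ i : Fin m, g • f i = f i) → g = 1

/-- each point is moved by something fixing the other ones -/
def Indep (G : Type*) {Ω : Type*} [Group G] [MulAction G Ω] (S : Finset Ω) : Prop :=
  ∀ x ∈ S, ∃ g : G, (∀ y ∈ S, y ≠ x → g • y = y) ∧ g • x ≠ x

theorem Irr.injective {m : ℕ} {f : Fin m → Ω} (h : Irr G f) : Function.Injective f := by
  intro i j hij
  by_contra hne
  rcases lt_or_gt_of_ne hne with hlt | hlt
  · obtain ⟨g, h1, h2⟩ := h j
    exact h2 (hij ▸ h1 i hlt)
  · obtain ⟨g, h1, h2⟩ := h i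
    exact h2 (hij.symm ▸ h1 j hlt)

theorem exists_irr_base_le : ∀ (m : ℕ) (f : Fin m → Ω), IsBase G f →
    ∃ m' ≤ m, ∃ f' : Fin m' → Ω, IsBase G f' ∧ Irr G f' := by
  intro m
  induction m with
  | zero => exact fun f hf => ⟨0, le_rfl, f, hf, fun i => i.elim0⟩
  | succ m ih =>
    intro f hf
    by_cases h : Irr G f
    · exact ⟨m + 1, le_rfl, f, hf, h⟩
    · rw [Irr] at h
      push Not at h
      obtain ⟨i, hi⟩ := h
      obtain ⟨m', hm', f', hf'⟩ := ih (f ∘ i.succAbove) fun g hg => by
        have hrest : ∀ j, j ≠ i → g • f j = f j := fun j hj => by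
          obtain ⟨k, rfl⟩ := Fin.exists_succAbove_eq hj
          exact hg k
        exact hf g fun j => by
          rcases eq_or_ne j i with rfl | hj
          · exact hi g fun k hk => hrest k hk.ne
          · exact hrest j hj
      exact ⟨m', by omega, f', hf'⟩

theorem exists_extend (hfaith : ∀ g : G, (∀ x : Ω, g • x = x) → g = 1) :
    ∀ (d m : ℕ) (f : Fin m → Ω), Fintype.card Ω ≤ m + d → Irr G f →
      ∃ (m' : ℕ) (f' : Fin m' → Ω), IsBase G f' ∧ Irr G f' ∧ Set.range f ⊆ Set.range f' := by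
  intro d
  induction d with
  | zero =>
    intro m f hm hf
    refine ⟨m, f, fun g hg => hfaith g fun x => ?_, hf, subset_rfl⟩
    have hb : Function.Bijective f := (Fintype.bijective_iff_injective_and_card f).2
      ⟨hf.injective, le_antisymm (Fintype.card_le_of_injective f hf.injective) (by simpa using hm)⟩
    obtain ⟨i, rfl⟩ := hb.2 x
    exact hg i
  | succ d ih =>
    intro m f hm hf
    by_cases hb : IsBase G f
    · exact ⟨m, f, hb, hf, subset_rfl⟩
    · rw [IsBase] at hb
      push Not at hb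
      obtain ⟨g, hg, hg1⟩ := hb
      obtain ⟨y, hy⟩ : ∃ y : Ω, g • y ≠ y := by
        by_contra hc
        push Not at hc
        exact hg1 (hfaith g hc)
      obtain ⟨m', f', h1, h2, h3⟩ := ih (m + 1) (Fin.snoc f y) (by omega) fun i => by
        induction i using Fin.lastCases with
        | last =>
          refine ⟨g, fun j hj => ?_, by simpa using hy⟩
          obtain ⟨k, rfl⟩ := Fin.exists_castSucc_eq.2 hj.ne
          simpa using hg k
        | cast i =>
          obtain ⟨g', h1, h2⟩ := hf i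
          refine ⟨g', fun j hj => ?_, by simpa using h2⟩
          obtain ⟨k, rfl⟩ := Fin.exists_castSucc_eq.2 (ne_of_lt (hj.trans (Fin.castSucc_lt_last i)))
          simpa using h1 k (Fin.castSucc_lt_castSucc_iff.1 hj)
      refine ⟨m', f', h1, h2, ?_⟩
      rintro _ ⟨i, rfl⟩
      exact h3 ⟨i.castSucc, by simp⟩

section

variable (hre : ∀ (t : ℕ) (f : Fin t → Ω) (σ : Equiv.Perm (Fin t)), IsBase G f ∧ Irr G f →
    IsBase G (f ∘ σ) ∧ Irr G (f ∘ σ))
  (hfaith : ∀ g : G, (∀ x : Ω, g • x = x) → g = 1)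

include hre hfaith

theorem indep_of_irr {m : ℕ} {f : Fin m → Ω} (hf : Irr G f) {S : Finset Ω}
    (hS : ∀ x ∈ S, ∃ i, f i = x) : Indep G S := by
  obtain ⟨m', f', h1, h2, h3⟩ := exists_extend hfaith (Fintype.card Ω) m f (by omega) hf
  intro x hx
  obtain ⟨i, rfl⟩ := hS x hx
  obtain ⟨i', hi'⟩ := h3 ⟨i, rfl⟩
  cases m' with
  | zero => exact i'.elim0
  | succ m' =>
    obtain ⟨-, h4⟩ := hre _ f' (Equiv.swap i' (Fin.last m')) ⟨h1, h2⟩
    obtain ⟨g, h5, h6⟩ := h4 (Fin.last m')
    refine ⟨g, fun y hy hne => ?_, ?_⟩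
    · obtain ⟨j, rfl⟩ := hS y hy
      obtain ⟨j', hj'⟩ := h3 ⟨j, rfl⟩
      have hji : j' ≠ i' := fun h => hne (by rw [← hj', h, hi'])
      have := h5 (Equiv.swap i' (Fin.last m') j')
        (lt_of_le_of_ne (Fin.le_last _) fun h => hji (by
          rw [← Equiv.swap_apply_self i' (Fin.last m') j', h, Equiv.swap_apply_right]))
      simpa [hj'] using this
    · simpa [hi'] using h6

theorem indep_card_le [DecidableEq Ω] {J : Finset Ω}
    (hJ : ∀ g : G, (∀ y ∈ J, g • y = y) → g = 1) :
    ∀ (d : ℕ) (I : Finset Ω), Indep G I → (I \ J).card ≤ d → I.card ≤ J.card := by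
  intro d
  induction d with
  | zero =>
    intro I _ hd
    exact Finset.card_le_card (Finset.sdiff_eq_empty_iff_subset.1 (Finset.card_eq_zero.1 (Nat.le_zero.1 hd)))
  | succ d ih =>
    intro I hI hd
    by_cases hsub : I ⊆ J
    · exact Finset.card_le_card hsub
    obtain ⟨x, hx, hxJ⟩ := Finset.not_subset.1 hsub
    obtain ⟨g, hg, hgx⟩ := hI x hx
    obtain ⟨y, hyJ, hy⟩ : ∃ y ∈ J, g • y ≠ y := by
      by_contra hc
      push Not at hc
      exact hgx (by rw [hJ g hc, one_smul])
    have hyI : y ∉ I := fun h => hy (hg y h fun e => hxJ (e ▸ hyJ))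
    set I₀ := I.erase x
    -- enumerate the rest and append `y`
    let f : Fin I₀.card → Ω := fun i => (I₀.equivFin.symm i : Ω)
    have hf : ∀ i, f i ∈ I ∧ f i ≠ x := fun i =>
      ⟨Finset.mem_of_mem_erase (I₀.equivFin.symm i).2, Finset.ne_of_mem_erase (I₀.equivFin.symm i).2⟩
    have hirr : Irr G (Fin.snoc f y : Fin (I₀.card + 1) → Ω) := fun i => by
      induction i using Fin.lastCases with
      | last =>
        refine ⟨g, fun j hj => ?_, by simpa using hy⟩
        obtain ⟨k, rfl⟩ := Fin.exists_castSucc_eq.2 hj.ne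
        simpa using hg _ (hf k).1 (hf k).2
      | cast i =>
        obtain ⟨g', h1, h2⟩ := hI _ (hf i).1
        refine ⟨g', fun j hj => ?_, by simpa using h2⟩
        obtain ⟨k, rfl⟩ := Fin.exists_castSucc_eq.2 (ne_of_lt (hj.trans (Fin.castSucc_lt_last i)))
        have hne : f k ≠ f i := fun h => (Fin.castSucc_lt_castSucc_iff.1 hj).ne
          (I₀.equivFin.symm.injective (Subtype.ext h))
        simpa using h1 _ (hf k).1 hne
    have hI' : Indep G (insert y I₀) := indep_of_irr hre hfaith hirr fun z hz => by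
      rcases Finset.mem_insert.1 hz with rfl | hz
      · exact ⟨Fin.last _, by simp⟩
      · exact ⟨(I₀.equivFin ⟨z, hz⟩).castSucc, by simp [f]⟩
    have h1 := ih _ hI' (by
      have hss : (insert y I₀) \ J ⊆ (I \ J).erase x := fun z hz => by
        obtain ⟨hz, hzJ⟩ := Finset.mem_sdiff.1 hz
        rcases Finset.mem_insert.1 hz with rfl | hz
        · exact absurd hyJ hzJ
        · exact Finset.mem_erase.2 ⟨Finset.ne_of_mem_erase hz,
            Finset.mem_sdiff.2 ⟨Finset.mem_of_mem_erase hz, hzJ⟩⟩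
      have := Finset.card_le_card hss
      rw [Finset.card_erase_of_mem (Finset.mem_sdiff.2 ⟨hx, hxJ⟩)] at this
      omega)
    have h2 : (insert y I₀).card = I.card := by
      rw [Finset.card_insert_of_notMem fun h => hyI (Finset.mem_of_mem_erase h),
        Finset.card_erase_add_one hx]
    omega

end

end Cfsg.Agent.PermBases
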